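import Mathlib
import Cfsg.Agent.CpAutTwF.FieldAut
import Cfsg.Agent.H469.NBr

/-!
# Elements of a group with a Sylow subgroup in a direct product (helper496)

* `exists_cent` : `L`, `M = θ(L)` commuting subgroups of `G` with `L ⊓ M = 1`, `|G| = |L|² cof`, `p` prime to `cof`,
  `p ∣ |L|`: every `p`-element `y` commutes with an element `c` of order `p` centralising a conjugate of `M`;
* `exists_sq_mem` : an element of order `p` of a non-cyclic `p`-group, `p` odd, lies in an elementary abelian subgroup of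
  order `p ^ 2`.
-/

set_option autoImplicit false

namespace Cfsg.Agent.H496.TwFRad.Cent

open Subgroup
open scoped Pointwise

theorem exists_cent {G : Type*} [Group G] [Finite G] {p : ℕ} [hp : Fact p.Prime] {L M : Subgroup G} (θ : MulAut G)
    (hM : L.map θ.toMonoidHom = M) (hcomm : ∀ l ∈ L, ∀ m ∈ M, l * m = m * l) (hinf : ∀ x ∈ L, x ∈ M → x = 1)
    (hpL : p ∣ Nat.card L) {cof : ℕ} (hcard : Nat.card G = Nat.card L * Nat.card L * cof) (hcof : ¬ p ∣ cof) {y : G}
    (hy : IsPGroup p (zpowers y)) :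
    ∃ c g : G, orderOf c = p ∧ c * y = y * c ∧ ∀ m ∈ M, c * (g * m * g⁻¹) = (g * m * g⁻¹) * c := by
  obtain ⟨P⟩ : Nonempty (Sylow p L) := inferInstance
  let P4 : Subgroup G := (P : Subgroup L).map L.subtype
  let PM : Subgroup G := P4.map θ.toMonoidHom
  have h4L : P4 ≤ L := map_subtype_le _
  have hML : PM ≤ M := by rw [← hM]; exact map_mono h4L
  have hcm : ∀ a ∈ P4, ∀ b ∈ PM, a * b = b * a := fun a ha b hb => hcomm a (h4L ha) b (hML hb)
  have hc4 : Nat.card P4 = Nat.card P := card_map_of_injective L.subtype_injective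
  have hcM : Nat.card PM = Nat.card P := by
    rw [← hc4]
    exact card_map_of_injective θ.injective
  let A : Subgroup G := P4 ⊔ PM
  have hcA : Nat.card A = Nat.card P * Nat.card P := by
    rw [Cfsg.Agent.CpAutTwF.Count.card_mul_of (A := P4) (B := PM) (C := A) le_sup_left le_sup_right, hc4, hcM]
    · intro c hc
      refine Cfsg.Agent.SplitTwo.ZS.mem_sup_of_norm (fun a ha b hb => ?_) hc
      rw [hcm a ha b hb, mul_inv_cancel_right]
      exact hb
    · exact fun x hx hx' => hinf x (h4L hx) (hML hx')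
  obtain ⟨n, hn⟩ := IsPGroup.iff_card.1 P.isPGroup'
  have hPA : IsPGroup p A := IsPGroup.of_card (n := n + n) (by rw [hcA, hn, pow_add])
  obtain ⟨Q, hQ⟩ := hPA.exists_le_sylow
  have hAQ : A = Q := by
    apply Subgroup.eq_of_le_of_card_ge hQ
    obtain ⟨k, hk⟩ := IsPGroup.iff_card.1 Q.isPGroup'
    have h1 : Nat.card L = Nat.card P * (P : Subgroup L).index := (card_mul_index _).symm
    have h2 : ¬ p ∣ (P : Subgroup L).index := P.not_dvd_index' (index_ne_zero_of_finite)
    have h3 : Nat.card Q ∣ (Nat.card P * Nat.card P) * ((P : Subgroup L).index * (P : Subgroup L).index * cof) := by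
      have : (Nat.card P * Nat.card P) * ((P : Subgroup L).index * (P : Subgroup L).index * cof) = Nat.card G := by
        rw [hcard, h1]
        ring
      rw [this]
      exact card_subgroup_dvd_card _
    have h4 : (Nat.card Q).Coprime ((P : Subgroup L).index * (P : Subgroup L).index * cof) := by
      rw [hk]
      apply Nat.Coprime.pow_left
      rw [Nat.Prime.coprime_iff_not_dvd hp.out, hp.out.dvd_mul, hp.out.dvd_mul]
      rintro ((h | h) | h)
      · exact h2 h
      · exact h2 h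
      · exact hcof h
    rw [hcA]
    exact Nat.le_of_dvd (Nat.mul_pos Nat.card_pos Nat.card_pos) (h4.dvd_of_dvd_mul_right h3)
  -- the element of order `p`
  have hPp : p ∣ Nat.card P := by
    have h1 : Nat.card L = Nat.card P * (P : Subgroup L).index := (card_mul_index _).symm
    have h2 : ¬ p ∣ (P : Subgroup L).index := P.not_dvd_index' (index_ne_zero_of_finite)
    rw [h1] at hpL
    exact (hp.out.dvd_mul.1 hpL).resolve_right h2
  have hnt : Nontrivial P := by
    rw [← Finite.one_lt_card_iff_nontrivial]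
    exact hp.out.one_lt.trans_le (Nat.le_of_dvd Nat.card_pos hPp)
  have hZ : Nontrivial (center P) := P.isPGroup'.center_nontrivial
  obtain ⟨c0, hc0⟩ : ∃ c0 : center P, orderOf c0 = p := by
    have h1 : IsPGroup p (center P) := P.isPGroup'.to_subgroup _
    obtain ⟨j, hj⟩ := IsPGroup.iff_card.1 h1
    have h2 : 1 < Nat.card (center P) := Finite.one_lt_card_iff_nontrivial.2 hZ
    have h3 : j ≠ 0 := by
      rintro rfl
      rw [hj, pow_zero] at h2
      exact lt_irrefl _ h2
    exact exists_prime_orderOf_dvd_card' p (by rw [hj]; exact dvd_pow_self p h3)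
  let c : G := ((c0 : P) : L)
  have hc : orderOf c = p := by
    rw [← hc0]
    show orderOf (((c0 : P) : L) : G) = orderOf c0
    rw [Subgroup.orderOf_coe, Subgroup.orderOf_coe, Subgroup.orderOf_coe]
  have hcP : c ∈ P4 := ⟨_, (c0 : P).2, rfl⟩
  have hcA : ∀ a ∈ A, c * a = a * c := by
    intro a ha
    obtain ⟨b, hb, d, hd, rfl⟩ := Cfsg.Agent.SplitTwo.ZS.mem_sup_of_norm (A := P4) (B := PM) (fun a ha b hb => by
      rw [hcm a ha b hb, mul_inv_cancel_right]
      exact hb) ha
    have h1 : c * b = b * c := by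
      obtain ⟨b', hb', rfl⟩ := hb
      have h2 := mem_center_iff.1 c0.2 (⟨b', hb'⟩ : P)
      have h3 := congrArg (fun z : P => ((z : L) : G)) h2
      exact h3.symm
    rw [← mul_assoc, h1, mul_assoc, hcm c hcP d hd, mul_assoc]
  -- the conjugate
  obtain ⟨Q', hQ'⟩ := hy.exists_le_sylow
  obtain ⟨g, hg⟩ := MulAction.exists_smul_eq G Q' Q
  have hyA : g * y * g⁻¹ ∈ A := by
    rw [hAQ, ← hg]
    show g * y * g⁻¹ ∈ ((MulAut.conj g • (Q' : Subgroup G) : Subgroup G))
    exact Subgroup.smul_mem_pointwise_smul y (MulAut.conj g) _ (hQ' (Subgroup.mem_zpowers y))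
  refine ⟨g⁻¹ * c * g, g⁻¹, ?_, ?_, ?_⟩
  · have : g⁻¹ * c * g = MulAut.conj g⁻¹ c := by rw [MulAut.conj_apply, inv_inv]
    rw [this, MulEquiv.orderOf_eq, hc]
  · have h1 := hcA _ hyA
    calc g⁻¹ * c * g * y = g⁻¹ * (c * (g * y * g⁻¹)) * g := by group
      _ = g⁻¹ * ((g * y * g⁻¹) * c) * g := by rw [h1]
      _ = _ := by group
  · intro m hm
    have h1 := hcomm c (h4L hcP) m hm
    calc g⁻¹ * c * g * (g⁻¹ * m * g⁻¹⁻¹) = g⁻¹ * (c * m) * g := by group
      _ = g⁻¹ * (m * c) * g := by rw [h1]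
      _ = _ := by group

/-- elements of prime order -/
theorem mem_zpowers_of {G : Type*} [Group G] {p : ℕ} [hp : Fact p.Prime] {x z : G} (hz : orderOf z = p) (hx : x ≠ 1)
    (h : x ∈ zpowers z) : z ∈ zpowers x := by
  have hc : Nat.card (zpowers z) = p := by rw [Nat.card_zpowers, hz]
  have hfin : Finite (zpowers z) := Nat.finite_of_card_ne_zero (by rw [hc]; exact hp.out.ne_zero)
  have h1 : zpowers x ≤ zpowers z := zpowers_le.2 h
  have h2 : zpowers x = zpowers z := by
    apply Subgroup.eq_of_le_of_card_ge h1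
    rw [hc]
    have h3 := card_dvd_of_le h1
    rw [hc] at h3
    rcases (Nat.dvd_prime hp.out).1 h3 with h4 | h4
    · exfalso
      apply hx
      rw [Subgroup.card_eq_one, zpowers_eq_bot] at h4
      exact h4
    · rw [h4]
  rw [h2]
  exact mem_zpowers z

theorem pair {G : Type*} [Group G] [Finite G] {p : ℕ} [hp : Fact p.Prime] {y z : G} (hy : orderOf y = p)
    (hz : orderOf z = p) (hyz : y * z = z * y) (hn : z ∉ zpowers y) :
    ∃ E : Subgroup G, y ∈ E ∧ Nat.card E = p ^ 2 ∧ (∀ a ∈ E, ∀ b ∈ E, a * b = b * a) ∧ ∀ a ∈ E, a ^ p = 1 := by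
  have hc : ∀ (i j : ℤ), y ^ i * z ^ j = z ^ j * y ^ i := fun i j => ((show Commute y z from hyz).zpow_zpow i j).eq
  have hform : ∀ a ∈ zpowers y ⊔ zpowers z, ∃ b ∈ zpowers y, ∃ d ∈ zpowers z, a = b * d := fun a ha =>
    Cfsg.Agent.SplitTwo.ZS.mem_sup_of_norm (by
      rintro _ ⟨i, rfl⟩ _ ⟨j, rfl⟩
      show y ^ i * z ^ j * (y ^ i)⁻¹ ∈ _
      rw [hc, mul_inv_cancel_right]
      exact ⟨j, rfl⟩) ha
  refine ⟨zpowers y ⊔ zpowers z, mem_sup_left (mem_zpowers y), ?_, ?_, ?_⟩
  · rw [Cfsg.Agent.CpAutTwF.Count.card_mul_of (A := zpowers y) (B := zpowers z) le_sup_left le_sup_right hform,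
      Nat.card_zpowers, Nat.card_zpowers, hy, hz, pow_two]
    intro x hx hx'
    by_contra hx1
    have h1 := mem_zpowers_of hz hx1 hx'
    exact hn ((zpowers_le.2 hx) h1)
  · intro a ha b hb
    obtain ⟨_, ⟨i, rfl⟩, _, ⟨j, rfl⟩, rfl⟩ := hform a ha
    obtain ⟨_, ⟨i', rfl⟩, _, ⟨j', rfl⟩, rfl⟩ := hform b hb
    have h1 : Commute y z := hyz
    have h2 : Commute (y ^ i * z ^ j) (y ^ i' * z ^ j') := by
      refine Commute.mul_left (Commute.mul_right ?_ ?_) (Commute.mul_right ?_ ?_)
      · exact (Commute.refl y).zpow_zpow _ _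
      · exact h1.zpow_zpow _ _
      · exact h1.symm.zpow_zpow _ _
      · exact (Commute.refl z).zpow_zpow _ _
    exact h2.eq
  · intro a ha
    obtain ⟨_, ⟨i, rfl⟩, _, ⟨j, rfl⟩, rfl⟩ := hform a ha
    have h1 : Commute (y ^ i) (z ^ j) := hc i j
    show (y ^ i * z ^ j) ^ p = 1
    rw [h1.mul_pow, ← zpow_natCast, ← zpow_natCast, ← zpow_mul, ← zpow_mul, mul_comm i, mul_comm j, zpow_mul, zpow_mul,
      zpow_natCast, zpow_natCast]
    have e1 : y ^ p = 1 := by rw [← hy]; exact pow_orderOf_eq_one y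
    have e2 : z ^ p = 1 := by rw [← hz]; exact pow_orderOf_eq_one z
    rw [e1, e2, one_zpow, one_zpow, one_mul]

theorem exists_sq_mem {G : Type*} [Group G] [Finite G] {p : ℕ} [hp : Fact p.Prime] (hp2 : p ≠ 2) {P : Subgroup G}
    (hP : IsPGroup p P) (hnc : ¬ IsCyclic P) {y : G} (hy : y ∈ P) (hyo : orderOf y = p) :
    ∃ E : Subgroup G, y ∈ E ∧ Nat.card E = p ^ 2 ∧ (∀ a ∈ E, ∀ b ∈ E, a * b = b * a) ∧ ∀ a ∈ E, a ^ p = 1 := by
  obtain ⟨A, hAP, hAc, hAcomm, hAp⟩ := Cfsg.Agent.H469.exists_sq hp2 hP hnc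
  by_cases hyA : y ∈ A
  · exact ⟨A, hyA, hAc, hAcomm, hAp⟩
  have hnt : Nontrivial P := ⟨⟨⟨y, hy⟩, 1, fun h => by
    have h1 : y = 1 := congrArg Subtype.val h
    rw [h1, orderOf_one] at hyo
    exact hp.out.one_lt.ne hyo⟩⟩
  have hZ : Nontrivial (center P) := hP.center_nontrivial
  obtain ⟨z0, hz0⟩ : ∃ z0 : center P, orderOf z0 = p := by
    have h1 : IsPGroup p (center P) := hP.to_subgroup _
    obtain ⟨j, hj⟩ := IsPGroup.iff_card.1 h1
    have h2 : 1 < Nat.card (center P) := Finite.one_lt_card_iff_nontrivial.2 hZ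
    have h3 : j ≠ 0 := by
      rintro rfl
      rw [hj, pow_zero] at h2
      exact lt_irrefl _ h2
    exact exists_prime_orderOf_dvd_card' p (by rw [hj]; exact dvd_pow_self p h3)
  let z : G := (z0 : P)
  have hz : orderOf z = p := by
    rw [← hz0]
    show orderOf ((z0 : P) : G) = orderOf z0
    rw [Subgroup.orderOf_coe, Subgroup.orderOf_coe]
  have hzc : ∀ a ∈ P, a * z = z * a := by
    intro a ha
    have h1 := mem_center_iff.1 z0.2 (⟨a, ha⟩ : P)
    exact congrArg Subtype.val h1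
  by_cases hzy : z ∈ zpowers y
  · have hz1 : z ≠ 1 := by
      intro h
      rw [h, orderOf_one] at hz
      exact hp.out.one_lt.ne hz
    have hyz : y ∈ zpowers z := mem_zpowers_of hyo hz1 hzy
    obtain ⟨i, hi⟩ := hyz
    have hyc : ∀ a ∈ P, y * a = a * y := by
      intro a ha
      rw [← hi]
      exact (((show Commute a z from hzc a ha).zpow_right i).eq).symm
    have hA1 : ∃ e ∈ A, e ≠ 1 := by
      by_contra hcon
      push Not at hcon
      have h1 : A = ⊥ := (eq_bot_iff_forall A).2 hcon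
      rw [h1, Subgroup.card_bot] at hAc
      have := Nat.one_lt_pow (two_ne_zero) hp.out.one_lt
      omega
    obtain ⟨e, he, he1⟩ := hA1
    have heo : orderOf e = p := orderOf_eq_prime (hAp e he) he1
    refine pair hyo heo (hyc e (hAP he)) fun h => ?_
    have h2 := mem_zpowers_of hyo he1 h
    exact hyA ((zpowers_le.2 he) h2)
  · exact pair hyo hz (hzc y hy) hzy

end Cfsg.Agent.H496.TwFRad.Cent
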