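import Cfsg.Agent.CpAutTwF.FieldAut
import Cfsg.Agent.S1068

/-!
# The Levi complements `L4 = ⟨X_0, X_8⟩`, `M4 = ⟨X_4, X_12⟩` of `²F₄(q)`, `q ≥ 8` (helper496)

`L4` and `M4` commute, `L4 ⊓ M4 = 1`, `|L4| = q² (q - 1) (q² + 1)`, `L4` is perfect (the general form of
`CpAutTwF.Levi`).
-/

set_option autoImplicit false
set_option linter.unusedSectionVars false

namespace Cfsg.Agent.H496.TwFRad.Levi

open Subgroup
open scoped commutatorElement
open Cfsg.Agent.SplitTwo Cfsg.Agent.SplitTwo.ZS Cfsg.Agent.TitsThree.RankTwoZ Cfsg.Agent.SplitTwo.RootSysZ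
open Cfsg.Agent.KFacts.TwF4 Cfsg.Agent.KFacts.TwF4.Arc Cfsg.Agent.KFacts.TwF4.Irr Cfsg.Agent.KFacts.TwF4.Perf
open Cfsg.Agent.KFacts.TwF4.Inv Cfsg.Agent.KFacts.TwF4.AutTau
open Cfsg.Agent.CpAutTwF.Card
open Cfsg.Agent.CpAutTwF.Five (h0_fpf h0_comm)
open Cfsg.Agent.CpAutTwF.Pair Cfsg.Agent.CpAutTwF.Cent
open Cfsg.Agent.CpAutTwF.Levi (PL_inf_T n2_not)

universe u

variable {F : Type*} [Field F] {σ : F →+* F} {G : Type u} [Group G] (S : Full σ G)
variable [Finite F] [Finite G]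

theorem L4_inf_Q (hF : ∃ d : Fˣ, d ≠ 1) {x : G} (h1 : x ∈ L4 S) (h2 : x ∈ S.Q) : x = 1 := by
  obtain ⟨d, hd⟩ := hF
  exact h0_fpf S hd h2 (by rw [h0_comm S d h1, mul_inv_cancel_right])

theorem card_Tk4 : Nat.card (S.Tk 4) = Nat.card F - 1 := by
  rw [← Nat.card_units]
  symm
  refine Nat.card_congr (Equiv.ofBijective (fun d : Fˣ => (⟨S.h (Units.map (σ : F →* F) d) d, ?_⟩ : S.Tk 4)) ⟨?_, ?_⟩)
  · have := (mem_Tk_even S 2 (Units.map (σ : F →* F) d) d).2 (by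
      rw [show ((2 : ℤ) : ZMod 8) = 2 by norm_num, chE_two, div_self'])
    rw [show (2 * 2 : ℤ) = 4 by norm_num] at this
    exact this
  · intro d d' h
    exact (S.h_inj _ _ _ _ (congrArg Subtype.val h)).2
  · rintro ⟨t, ht⟩
    obtain ⟨c, d, rfl⟩ := S.mem_T.1 (S.Tk_le 4 ht)
    have ht' : S.h c d ∈ S.Tk (2 * 2) := by
      rw [show (2 * 2 : ℤ) = 4 by norm_num]; exact ht
    have h1 := (mem_Tk_even S 2 c d).1 ht'
    rw [show ((2 : ℤ) : ZMod 8) = 2 by norm_num, chE_two, div_eq_one] at h1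
    exact ⟨d, Subtype.ext (by show S.h _ _ = _; rw [h1])⟩

/-- the Bruhat form of the elements of `L4` -/
theorem form_L4 (hF : ∃ d : Fˣ, d ≠ 1) {l : G} (hl : l ∈ L4 S) :
    (∃ x ∈ S.XZ 8, ∃ t ∈ S.Tk 4, l = x * t) ∨
      ∃ x ∈ S.XZ 8, ∃ t ∈ S.Tk 4, ∃ y ∈ S.XZ 8, l = x * (t * S.n2) * y := by
  have Z8 := S.zsys8
  have key : ∀ b ∈ J S.XZ 1 8, ∀ t ∈ S.T, b * t ∈ L4 S → ∃ x ∈ S.XZ 8, t ∈ S.Tk 4 ∧ b * t = x * t := by
    intro b hb t ht h
    obtain ⟨q, hq, x, hx, rfl⟩ := Z8.split_rr (a := 1) (b := 8) (by norm_num) (by norm_num) hb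
    have hq' : q ∈ S.Q := J_mono le_rfl (by norm_num) hq
    have hU : q * x ∈ S.PL := mul_mem (Q_PL S hq') (mem_J hx (by norm_num) (by norm_num))
    have htP : t ∈ S.PL := by
      have : t = (q * x)⁻¹ * (q * x * t) := by group
      rw [this]
      exact mul_mem (inv_mem hU) (L4_le_PL S h)
    have ht4 := PL_inf_T S ht htP
    have hxt : x * t ∈ L4 S := mul_mem (X8_L4 S hx) (Tk4_L4 S ht4)
    have hq1 : q = 1 := by
      refine L4_inf_Q S hF ?_ hq'
      have : q = (q * x * t) * (x * t)⁻¹ := by group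
      rw [this]
      exact mul_mem h (inv_mem hxt)
    exact ⟨x, hx, ht4, by rw [hq1, one_mul]⟩
  rcases S.form_PL (L4_le_PL S hl) with ⟨b, hb, t, ht, rfl⟩ | ⟨b, hb, t, ht, y, hy, rfl⟩
  · obtain ⟨x, hx, ht4, h⟩ := key b hb t ht hl
    exact Or.inl ⟨x, hx, t, ht4, h⟩
  · obtain ⟨x, hx, ht4, h⟩ := key b hb t ht (by
      have : b * t = (b * (t * S.n2) * y) * y⁻¹ * S.n2⁻¹ := by group
      rw [this]
      exact mul_mem (mul_mem hl (inv_mem (X8_L4 S hy))) (inv_mem (n2_mem_L4 S)))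
    exact Or.inr ⟨x, hx, t, ht4, y, hy, by rw [← mul_assoc, h, mul_assoc x]⟩

theorem card_L4 (hF : ∃ d : Fˣ, d ≠ 1) : Nat.card (L4 S) =
    Nat.card F * Nat.card F * (Nat.card F - 1) * (Nat.card F * Nat.card F + 1) := by
  have e : (S.XZ 8 × S.Tk 4) × Option (S.XZ 8) ≃ L4 S := by
    refine Equiv.ofBijective (fun a => ⟨a.1.1 * (a.1.2 * (a.2.elim 1 fun y => S.n2 * y)), ?_⟩) ⟨?_, ?_⟩
    · refine mul_mem (X8_L4 S a.1.1.2) (mul_mem (Tk4_L4 S a.1.2.2) ?_)
      rcases a.2 with _ | y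
      · exact one_mem _
      · exact mul_mem (n2_mem_L4 S) (X8_L4 S y.2)
    · rintro ⟨⟨x, t⟩, o⟩ ⟨⟨x', t'⟩, o'⟩ h
      have h1 := congrArg Subtype.val h
      dsimp only at h1
      have hxU : ∀ x : S.XZ 8, (x : G) ∈ J S.XZ 1 8 := fun x => mem_J x.2 (by norm_num) le_rfl
      have htT : ∀ t : S.Tk 4, (t : G) ∈ S.T := fun t => S.Tk_le 4 t.2
      have cross : ∀ (x x' y : S.XZ 8) (t t' : S.Tk 4), (x : G) * (t * 1) ≠ x' * (t' * (S.n2 * y)) := by
        intro x x' y t t' h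
        refine n2_not S (u := (t' : G)⁻¹ * ((x' : G)⁻¹ * x) * (t' : G)⁻¹⁻¹ *
          ((t' : G)⁻¹ * t * (y : G)⁻¹ * ((t' : G)⁻¹ * t)⁻¹)) (t := (t' : G)⁻¹ * t) ?_ ?_ ?_
        · exact mul_mem (S.T_conj_J (inv_mem (htT t')) (mul_mem (inv_mem (hxU x')) (hxU x)))
            (S.T_conj_J (mul_mem (inv_mem (htT t')) (htT t)) (inv_mem (hxU y)))
        · exact mul_mem (inv_mem (htT t')) (htT t)
        · have : (t' : G)⁻¹ * (x' : G)⁻¹ * (x * (t * 1)) * (y : G)⁻¹ = S.n2 := by rw [h]; group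
          rw [← this]; group
      rcases o with _ | y <;> rcases o' with _ | y'
      · have h2 : (x' : G)⁻¹ * x = t' * (t : G)⁻¹ := by
          have : (x : G) = x' * t' * (t : G)⁻¹ := by
            have h3 : (x : G) * (t * 1) = x' * (t' * 1) := h1
            rw [mul_one, mul_one] at h3
            rw [← h3]; group
          rw [this]; group
        have h3 : (t' : G) * (t : G)⁻¹ = 1 := S.U_inf_T (mul_mem (htT t') (inv_mem (htT t))) (by
          rw [← h2]; exact mul_mem (inv_mem (hxU x')) (hxU x))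
        have h4 : (x' : G)⁻¹ * x = 1 := by rw [h2, h3]
        have h5 : x = x' := Subtype.ext (inv_mul_eq_one.1 h4).symm
        have h6 : t = t' := Subtype.ext (mul_inv_eq_one.1 h3).symm
        rw [h5, h6]
      · exact absurd h1 (cross x x' y' t t')
      · exact absurd h1.symm (cross x' x y t' t)
      · have h2 : (x : G) * (t * S.n2) * y = x' * (t' * S.n2) * y' := by
          have h3 : (x : G) * (t * (S.n2 * y)) = x' * (t' * (S.n2 * y')) := h1
          calc (x : G) * (t * S.n2) * y = (x : G) * (t * (S.n2 * y)) := by group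
            _ = x' * (t' * (S.n2 * y')) := h3
            _ = _ := by group
        obtain ⟨k1, k2, k3⟩ := S.form_unique (hxU x) (htT t) y.2 (hxU x') (htT t') y'.2 h2
        rw [Subtype.ext k1, Subtype.ext k2, Subtype.ext k3]
    · rintro ⟨l, hl⟩
      rcases form_L4 S hF hl with ⟨x, hx, t, ht, rfl⟩ | ⟨x, hx, t, ht, y, hy, rfl⟩
      · exact ⟨((⟨x, hx⟩, ⟨t, ht⟩), none), Subtype.ext (by show x * (t * 1) = _; rw [mul_one])⟩
      · exact ⟨((⟨x, hx⟩, ⟨t, ht⟩), some ⟨y, hy⟩), Subtype.ext (by show x * (t * (S.n2 * y)) = _; group)⟩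
  have h8 : Nat.card (S.XZ 8) = Nat.card F * Nat.card F := by
    have := card_even S 4
    norm_num at this
    exact this
  rw [← Nat.card_congr e, Nat.card_prod, Nat.card_prod, Finite.card_option, h8, card_Tk4 S]

/-- `L4` is perfect -/
theorem L4_perfect (hF : ∃ d : Fˣ, d ≠ 1) : ⁅L4 S, L4 S⁆ = L4 S := by
  have hD : ⁅L4 S, L4 S⁆ ≤ L4 S := commutator_le_self _
  have h1 : ⁅S.PL, S.PL⁆ ≤ ⁅L4 S, L4 S⁆ ⊔ S.Q := by
    rw [commutator_le]
    intro g hg k hk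
    obtain ⟨l, hl, q, hq, rfl⟩ := PL_split S hg
    obtain ⟨l', hl', q', hq', rfl⟩ := PL_split S hk
    have hP := L4_le_PL S hl
    have hP' := L4_le_PL S hl'
    have e1 : ⁅l * q, l' * q'⁆ = ⁅l, l'⁆ * (((l' * l) * ((l'⁻¹ * q * l') * q' * q⁻¹) * (l' * l)⁻¹) *
        (l' * q'⁻¹ * l'⁻¹)) := by
      simp only [commutatorElement_def]; group
    rw [e1]
    refine mul_mem (mem_sup_left (commutator_mem_commutator hl hl')) (mem_sup_right ?_)
    refine mul_mem (Q_norm S (mul_mem hP' hP) (mul_mem (mul_mem ?_ hq') (inv_mem hq))) (Q_norm S hP' (inv_mem hq'))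
    have := Q_norm S (inv_mem hP') hq
    rwa [inv_inv] at this
  rw [PL_perfect S hF] at h1
  apply le_antisymm hD
  intro l hl
  obtain ⟨d, hd, q, hq, rfl⟩ := mem_sup_of_norm (A := ⁅L4 S, L4 S⁆) (B := S.Q)
    (fun a ha b hb => Q_norm S (L4_le_PL S (hD ha)) hb) (h1 (L4_le_PL S hl))
  have hq1 : q = 1 := by
    refine L4_inf_Q S hF ?_ hq
    have : q = d⁻¹ * (d * q) := by group
    rw [this]
    exact mul_mem (inv_mem (hD hd)) hl
  rw [hq1, mul_one]
  exact hd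

theorem commutator_L4 (hF : ∃ d : Fˣ, d ≠ 1) : _root_.commutator (L4 S) = ⊤ := by
  apply map_injective (L4 S).subtype_injective
  rw [Subgroup.map_subtype_commutator, L4_perfect S hF, ← MonoidHom.range_eq_map, Subgroup.range_subtype]


/-- `L4 ⊓ M4 = 1` -/
theorem inf_one (hF : ∃ d : Fˣ, d ≠ 1) {z : G} (h1 : z ∈ L4 S) (h2 : z ∈ M4 S) : z = 1 := by
  have hL : ∀ l ∈ L4 S, l * z = z * l := fun l hl => L4_comm_M4 S hl h2
  have hM : ∀ l ∈ M4 S, z * l = l * z := fun l hl => L4_comm_M4 S h1 hl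
  have hU : ∀ {x : G}, x ∈ S.XZ 8 → x ∈ J S.XZ 1 8 := fun hx => mem_J hx (by norm_num) le_rfl
  rcases form_L4 S hF h1 with ⟨x, hx, t, ht, rfl⟩ | ⟨x, hx, t, ht, y, hy, rfl⟩
  · have htT : t ∈ S.T := S.Tk_le 4 ht
    -- `z n2 = n2 z`
    have h3 := hL S.n2 (n2_mem_L4 S)
    have ht' : S.n2 * t * S.n2⁻¹ ∈ S.T := by
      have h4 := (S.n2_maps.mul ((show Maps S.R.X t id from htT).mul (S.n2_maps.inv (g := fun k => 8 - k) fun k => by
        ring)))
      rw [← mul_assoc] at h4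
      exact h4.congr fun k => by
        show (8 : ZMod (2 * 8)) - (8 - k) = k
        ring
    have h5 : x * (t * S.n2) * 1 = 1 * ((S.n2 * t * S.n2⁻¹) * S.n2) * (t⁻¹ * x * t) := by
      calc x * (t * S.n2) * 1 = x * t * S.n2 := by group
        _ = S.n2 * (x * t) := h3.symm
        _ = _ := by group
    have hx' : t⁻¹ * x * t ∈ S.XZ 8 := by
      have := S.T_conj (inv_mem htT) 8 hx
      rwa [inv_inv] at this
    obtain ⟨k1, -, -⟩ := S.form_unique (hU hx) htT (one_mem _) (one_mem _) ht' hx' h5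
    subst k1
    rw [one_mul] at hL hM ⊢
    obtain ⟨c, d, rfl⟩ := S.mem_T.1 htT
    have k8 := hL (S.e 4 0 1) (X8_L4 S ((mem_X8 S).2 ⟨0, 1, rfl⟩))
    have k4 := hM (S.e 2 0 1) (le_sup_left (a := S.XZ 4) ((mem_X4 S).2 ⟨0, 1, rfl⟩))
    have e8 := S.h_e c d 4 0 1
    have e4 := S.h_e c d 2 0 1
    rw [← k8, mul_inv_cancel_right] at e8
    rw [k4, mul_inv_cancel_right] at e4
    have f8 : chE σ 4 c d = 1 := S.unit_eq_one (Units.ext (by
      have := (S.injE 4 _ _ _ _ e8).2.symm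
      rw [mul_one] at this
      exact this))
    have f4 : chE σ 2 c d = 1 := S.unit_eq_one (Units.ext (by
      have := (S.injE 2 _ _ _ _ e4).2.symm
      rw [mul_one] at this
      exact this))
    rw [chE_four, inv_eq_one] at f8
    rw [chE_two, f8, div_one] at f4
    have f5 : d = 1 := by
      have : Function.Injective (Units.map (σ : F →* F)) := by
        intro a b h
        exact Units.ext (σ.injective (congrArg Units.val h))
      exact this (f4.trans (map_one _).symm)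
    rw [f8, f5, S.h_one]
  · exfalso
    have hw : S.e 4 0 1 ∈ S.XZ 8 := (mem_X8 S).2 ⟨0, 1, rfl⟩
    have h3 := hL _ (X8_L4 S hw)
    have h4 : (S.e 4 0 1 * x) * (t * S.n2) * y = x * (t * S.n2) * (y * S.e 4 0 1) := by
      calc (S.e 4 0 1 * x) * (t * S.n2) * y = S.e 4 0 1 * (x * (t * S.n2) * y) := by group
        _ = x * (t * S.n2) * y * S.e 4 0 1 := h3
        _ = _ := by group
    obtain ⟨-, -, k3⟩ := S.form_unique (hU (mul_mem hw hx)) (S.Tk_le 4 ht) hy (hU hx) (S.Tk_le 4 ht)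
      (mul_mem hy hw) h4
    have h5 : S.e 4 0 1 = 1 := mul_eq_left.1 k3.symm
    exact one_ne_zero (S.e_eq_one h5).2

end Cfsg.Agent.H496.TwFRad.Levi
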