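import Mathlib

/-!
# Automorphisms of Frobenius type: conjugacy from Lang's theorem (helper496)

`ι : K →* Y` injective, `ψ : MulAut Y`, `φ : MulAut K`, `ψ ∘ ι = ι ∘ φ`.
* `pow_form` : the powers of `conj (ι k) * ψ` and of `conj k * φ` have the same inner part;
* `exists_conj` : if `ψ ^ p` is trivial on `ι K` and its fixed points normalise `ι K`, Lang's theorem holds for `ψ`, and
  `(conj k * φ) ^ p = 1`, then `conj k * φ` is conjugate to `φ`.
-/

set_option autoImplicit false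

namespace Cfsg.Agent.H496.TwFRad.Lift

variable {K Y : Type*} [Group K] [Group Y]

theorem mul_conj (φ : MulAut K) (a : K) : φ * MulAut.conj a = MulAut.conj (φ a) * φ := by
  ext b
  simp [MulAut.mul_apply, MulAut.conj_apply]

theorem pow_form (ι : K →* Y) {ψ : MulAut Y} {φ : MulAut K} (h : ∀ a, ψ (ι a) = ι (φ a)) (k : K) (n : ℕ) :
    ∃ P : K, (MulAut.conj (ι k) * ψ) ^ n = MulAut.conj (ι P) * ψ ^ n ∧
      (MulAut.conj k * φ) ^ n = MulAut.conj P * φ ^ n := by
  have hn : ∀ (n : ℕ) (a : K), (ψ ^ n) (ι a) = ι ((φ ^ n) a) := by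
    intro n
    induction n with
    | zero => intro a; rfl
    | succ n ih => intro a; rw [pow_succ', MulAut.mul_apply, ih, h, pow_succ', MulAut.mul_apply]
  induction n with
  | zero => exact ⟨1, by simp, by simp⟩
  | succ n ih =>
    obtain ⟨P, h1, h2⟩ := ih
    refine ⟨P * (φ ^ n) k, ?_, ?_⟩
    · rw [pow_succ, h1, pow_succ, map_mul, map_mul, ← hn]
      calc MulAut.conj (ι P) * ψ ^ n * (MulAut.conj (ι k) * ψ) =
          MulAut.conj (ι P) * (ψ ^ n * MulAut.conj (ι k)) * ψ := by group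
        _ = _ := by rw [mul_conj]; group
    · rw [pow_succ, h2, pow_succ, map_mul]
      calc MulAut.conj P * φ ^ n * (MulAut.conj k * φ) = MulAut.conj P * (φ ^ n * MulAut.conj k) * φ := by group
        _ = _ := by rw [mul_conj]; group

theorem exists_conj [Finite K] {ι : K →* Y} (hι : Function.Injective ι) (hZK : ∀ z : K, (∀ a, z * a = a * z) → z = 1)
    (hZY : ∀ z : Y, (∀ a, z * a = a * z) → z = 1) {ψ : MulAut Y} {φ : MulAut K} (h : ∀ a, ψ (ι a) = ι (φ a)) {p : ℕ}
    (hψ : ∀ a, (ψ ^ p) (ι a) = ι a) (hlang : ∀ c : Y, ∃ z, c = z⁻¹ * ψ z)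
    (hnorm : ∀ w : Y, (ψ ^ p) w = w → ∀ a, ∃ b, w * ι a * w⁻¹ = ι b) {k : K}
    (hx : (MulAut.conj k * φ) ^ p = 1) : ∃ δ : MulAut K, MulAut.conj k * φ = δ * φ * δ⁻¹ := by
  obtain ⟨P, h1, h2⟩ := pow_form ι h k p
  have hn : ∀ (n : ℕ) (a : K), (ψ ^ n) (ι a) = ι ((φ ^ n) a) := by
    intro n
    induction n with
    | zero => intro a; rfl
    | succ n ih => intro a; rw [pow_succ', MulAut.mul_apply, ih, h, pow_succ', MulAut.mul_apply]
  have hφ : φ ^ p = 1 := by
    ext a
    apply hι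
    rw [← hn, hψ]
    rfl
  have hP : P = 1 := by
    apply hZK
    intro a
    rw [hx, hφ, mul_one] at h2
    have h3 := DFunLike.congr_fun h2 a
    rw [MulAut.one_apply, MulAut.conj_apply, eq_mul_inv_iff_mul_eq] at h3
    exact h3.symm
  rw [hP, map_one, map_one, one_mul] at h1
  obtain ⟨z, hz⟩ := hlang (ι k)
  obtain ⟨w, hw⟩ : ∃ w, w = z⁻¹ := ⟨_, rfl⟩
  have h3 : MulAut.conj (ι k) * ψ = MulAut.conj w * ψ * (MulAut.conj w)⁻¹ := by
    have h4 : ι k = w * (ψ w)⁻¹ := by rw [hz, hw, map_inv, inv_inv]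
    rw [mul_assoc (MulAut.conj w), ← map_inv, mul_conj, map_inv ψ, h4, map_mul]
    group
  have h4 : MulAut.conj w * ψ ^ p * (MulAut.conj w)⁻¹ = ψ ^ p := by
    have h5 : MulAut.conj w * ψ ^ p * (MulAut.conj w)⁻¹ = (MulAut.conj w * ψ * (MulAut.conj w)⁻¹) ^ p :=
      map_pow (MulAut.conj (MulAut.conj w)) ψ p
    rw [h5, ← h3, h1]
  have h5 : (ψ ^ p) w = w := by
    have h6 : w * ((ψ ^ p) w)⁻¹ = 1 := by
      apply hZY
      intro a
      have h7 : MulAut.conj (w * ((ψ ^ p) w)⁻¹) * ψ ^ p = ψ ^ p := by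
        have h8 : MulAut.conj w * ψ ^ p * (MulAut.conj w)⁻¹ = MulAut.conj (w * ((ψ ^ p) w)⁻¹) * ψ ^ p := by
          rw [mul_assoc (MulAut.conj w), ← map_inv, mul_conj, map_inv (ψ ^ p), map_mul]
          group
        rw [← h8, h4]
      have h8 := mul_eq_right.1 h7
      have h9 := DFunLike.congr_fun h8 a
      rw [MulAut.conj_apply, MulAut.one_apply, mul_inv_eq_iff_eq_mul] at h9
      exact h9
    exact (mul_inv_eq_one.1 h6).symm
  choose f hf using hnorm w h5
  let g : K →* K :=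
    { toFun := f
      map_one' := by
        apply hι
        rw [← hf, map_one]
        group
      map_mul' := by
        intro a b
        apply hι
        rw [← hf, map_mul, map_mul, ← hf, ← hf]
        group }
  have hg : Function.Injective g := by
    intro a b hab
    apply hι
    have h6 : ι (f a) = ι (f b) := congrArg ι hab
    rw [← hf, ← hf] at h6
    exact mul_left_cancel (mul_right_cancel h6)
  let δ : MulAut K := MulEquiv.ofBijective g (Finite.injective_iff_bijective.1 hg)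
  have hδ : ∀ a, ι (δ a) = w * ι a * w⁻¹ := fun a => (hf a).symm
  refine ⟨δ, ?_⟩
  rw [eq_mul_inv_iff_mul_eq]
  ext a
  apply hι
  rw [MulAut.mul_apply, MulAut.mul_apply, MulAut.mul_apply, hδ, ← h, MulAut.conj_apply, map_mul, map_mul, map_inv, ← h,
    hδ]
  have h6 := DFunLike.congr_fun h3 (w * ι a * w⁻¹)
  rw [MulAut.mul_apply, MulAut.conj_apply] at h6
  rw [h6, MulAut.mul_apply, MulAut.mul_apply, ← map_inv, MulAut.conj_apply, MulAut.conj_apply]
  congr 3
  group

end Cfsg.Agent.H496.TwFRad.Lift
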